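import Groth.Agent.SSExist.TopBridge

/-!
The Čech complex of a family one of whose members is everything.
-/

set_option autoImplicit false
set_option linter.style.haveILetI false
set_option backward.defeqAttrib.useBackward true

open CategoryTheory CategoryTheory.Limits Opposite AlgebraicTopology TopologicalSpace
open Groth.Agent.SSExist.TopBridge

namespace Groth.Agent.CechTrivialCover

universe u

variable {X : TopCat.{u}} {ι : Type u} (U : ι → Opens X) (P : (Opens X)ᵒᵖ ⥤ AddCommGrpCat.{u})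

noncomputable def toMax {n : ℕ} (x : Fin (n + 1) → ι) : ∏ᶜ (U ∘ x) ⟶ iSup U :=
  Pi.π (U ∘ x) 0 ≫ homOfLE (le_iSup U (x 0))

/-- The augmentation. -/
noncomputable def augm : P.obj (op (iSup U)) ⟶ ((cechComplexFunctor U).obj P).X 0 :=
  Pi.lift fun x : Fin 1 → ι => P.map (toMax U x).op

lemma augm_gproj (x : Fin 1 → ι) : augm U P ≫ gproj U P 0 x = P.map (toMax U x).op :=
  Pi.lift_π _ x

lemma P_map_congr {V W : Opens X} (a b : V ⟶ W) : P.map a.op = P.map b.op := by
  rw [Subsingleton.elim a b]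

lemma augm_d : augm U P ≫ ((cechComplexFunctor U).obj P).d 0 1 = 0 := by
  refine Pi.hom_ext _ _ fun x : Fin 2 → ι => ?_
  show (augm U P ≫ _) ≫ gproj U P 1 x = 0 ≫ gproj U P 1 x
  rw [Category.assoc, d_gproj, Preadditive.comp_sum, Fin.sum_univ_two, zero_comp]
  simp only [Preadditive.comp_zsmul, ← Category.assoc, augm_gproj, ← P.map_comp, ← op_comp]
  rw [P_map_congr P (gface U x 1 ≫ toMax U (x ∘ Fin.succAbove 1)) (gface U x 0 ≫ toMax U (x ∘ Fin.succAbove 0))]
  simp

variable (i₀ : ι) (h₀ : U i₀ = iSup U)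

/-- Lifting a point of the product to the product with the maximal member. -/
noncomputable def liftCons {n : ℕ} (x : Fin (n + 1) → ι) :
    ∏ᶜ (U ∘ x) ⟶ ∏ᶜ (U ∘ (Fin.cons i₀ x : Fin (n + 2) → ι)) :=
  Pi.lift fun a => homOfLE (by
    refine Fin.cases ?_ (fun b => ?_) a
    · simpa [h₀] using (toMax U x).le
    · simpa using (Pi.π (U ∘ x) b).le)

/-- The contracting homotopy. -/
noncomputable def hK (n : ℕ) : ((cechComplexFunctor U).obj P).X (n + 1) ⟶ ((cechComplexFunctor U).obj P).X n :=
  Pi.lift fun x : Fin (n + 1) → ι =>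
    gproj U P (n + 1) (Fin.cons i₀ x) ≫ P.map (liftCons U i₀ h₀ x).op

lemma hK_gproj (n : ℕ) (x : Fin (n + 1) → ι) :
    hK U P i₀ h₀ n ≫ gproj U P n x = gproj U P (n + 1) (Fin.cons i₀ x) ≫ P.map (liftCons U i₀ h₀ x).op :=
  Pi.lift_π _ x

/-- The retraction. -/
noncomputable def retr : ((cechComplexFunctor U).obj P).X 0 ⟶ P.obj (op (iSup U)) :=
  gproj U P 0 (fun _ => i₀) ≫ P.map (Pi.lift fun _ => homOfLE h₀.ge : iSup U ⟶ ∏ᶜ (U ∘ fun _ : Fin 1 => i₀)).op

lemma gproj_congr {n : ℕ} {x y : Fin (n + 1) → ι} (h : x = y) {V : Opens X} (a : V ⟶ ∏ᶜ (U ∘ x)) (b : V ⟶ ∏ᶜ (U ∘ y)) :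
    gproj U P n x ≫ P.map a.op = gproj U P n y ≫ P.map b.op := by
  subst h
  rw [P_map_congr P a b]

lemma identity_zero :
    ((cechComplexFunctor U).obj P).d 0 1 ≫ hK U P i₀ h₀ 0 + retr U P i₀ h₀ ≫ augm U P = 𝟙 _ := by
  refine Pi.hom_ext _ _ fun x : Fin 1 → ι => ?_
  show (_ + _) ≫ gproj U P 0 x = 𝟙 _ ≫ gproj U P 0 x
  rw [Preadditive.add_comp, Category.assoc, Category.assoc, hK_gproj, augm_gproj, ← Category.assoc, d_gproj,
    Preadditive.sum_comp, Fin.sum_univ_two, retr, Category.assoc, ← P.map_comp, ← op_comp, Category.id_comp]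
  simp only [Preadditive.zsmul_comp, Category.assoc, ← P.map_comp, ← op_comp]
  rw [gproj_congr U P (show (Fin.cons i₀ x : Fin 2 → ι) ∘ Fin.succAbove 0 = x from by
        funext a; simp) _ (𝟙 _),
    gproj_congr U P (show (Fin.cons i₀ x : Fin 2 → ι) ∘ Fin.succAbove 1 = fun _ => i₀ from by
        funext a; fin_cases a; simp) _ (toMax U x ≫ (Pi.lift fun _ => homOfLE h₀.ge :
          iSup U ⟶ ∏ᶜ (U ∘ fun _ : Fin 1 => i₀)))]
  simp

lemma identity_succ (n : ℕ) :
    ((cechComplexFunctor U).obj P).d (n + 1) (n + 2) ≫ hK U P i₀ h₀ (n + 1) +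
      hK U P i₀ h₀ n ≫ ((cechComplexFunctor U).obj P).d n (n + 1) = 𝟙 _ := by
  refine Pi.hom_ext _ _ fun x : Fin (n + 2) → ι => ?_
  show (_ + _) ≫ gproj U P (n + 1) x = 𝟙 _ ≫ gproj U P (n + 1) x
  rw [Preadditive.add_comp, Category.assoc, Category.assoc, hK_gproj, ← Category.assoc, d_gproj, d_gproj,
    Preadditive.sum_comp, Preadditive.comp_sum, Fin.sum_univ_succ, Category.id_comp]
  refine (add_assoc _ _ _).trans ?_
  rw [← Finset.sum_add_distrib, Finset.sum_eq_zero fun j _ => ?_, add_zero]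
  · simp only [Fin.val_zero, pow_zero, one_smul, Category.assoc, ← P.map_comp, ← op_comp]
    rw [gproj_congr U P (show (Fin.cons i₀ x : Fin (n + 3) → ι) ∘ Fin.succAbove 0 = x from by
        funext a; simp) _ (𝟙 _)]
    simp
  · simp only [Preadditive.zsmul_comp, Preadditive.comp_zsmul, ← Category.assoc, hK_gproj]
    simp only [Category.assoc, ← P.map_comp, ← op_comp]
    rw [gproj_congr U P (show (Fin.cons i₀ x : Fin (n + 3) → ι) ∘ Fin.succAbove j.succ =
        Fin.cons i₀ (x ∘ j.succAbove) from by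
        funext a; refine Fin.cases ?_ (fun b => ?_) a <;> simp [Fin.succ_succAbove_succ]) _
        (gface U x j ≫ liftCons U i₀ h₀ (x ∘ j.succAbove))]
    simp [pow_succ]

/-- The homotopy equivalence. -/
noncomputable def homotopyEquiv :
    HomotopyEquiv ((CochainComplex.single₀ AddCommGrpCat.{u}).obj (P.obj (op (iSup U))))
      ((cechComplexFunctor U).obj P) where
  hom := (CochainComplex.fromSingle₀Equiv _ _).symm ⟨augm U P, augm_d U P⟩
  inv := (CochainComplex.toSingle₀Equiv _ _).symm (retr U P i₀ h₀)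
  homotopyHomInvId := Homotopy.ofEq (by
    refine HomologicalComplex.from_single_hom_ext ?_
    simp only [HomologicalComplex.comp_f, CochainComplex.fromSingle₀Equiv_symm_apply_f_zero,
      CochainComplex.toSingle₀Equiv_symm_apply_f_zero, HomologicalComplex.id_f]
    show augm U P ≫ retr U P i₀ h₀ = 𝟙 (P.obj (op (iSup U)))
    rw [retr, ← Category.assoc, augm_gproj, ← P.map_comp, ← op_comp,
      Subsingleton.elim (_ ≫ toMax U fun _ => i₀) (𝟙 _)]
    simp)
  homotopyInvHomId :=
    { hom := fun a b => if h : b + 1 = a then eqToHom (by rw [h]) ≫ (- hK U P i₀ h₀ b) else 0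
      zero := fun a b h => dif_neg h
      comm := fun n => by
        cases n with
        | zero =>
          rw [Homotopy.dNext_cochainComplex, Homotopy.prevD_zero_cochainComplex, dif_pos rfl, add_zero]
          simp only [eqToHom_refl, Category.id_comp, HomologicalComplex.comp_f, HomologicalComplex.id_f,
            CochainComplex.fromSingle₀Equiv_symm_apply_f_zero, CochainComplex.toSingle₀Equiv_symm_apply_f_zero,
            Preadditive.comp_neg]
          rw [← identity_zero U P i₀ h₀]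
          abel
        | succ n =>
          rw [Homotopy.dNext_cochainComplex, Homotopy.prevD_succ_cochainComplex, dif_pos rfl, dif_pos rfl]
          simp only [eqToHom_refl, Category.id_comp, HomologicalComplex.comp_f, HomologicalComplex.id_f,
            Preadditive.comp_neg, Preadditive.neg_comp]
          rw [← identity_succ U P i₀ h₀ n]
          rw [(HomologicalComplex.isZero_single_obj_X _ _ _ _ (Nat.succ_ne_zero n)).eq_of_tgt
            (((CochainComplex.toSingle₀Equiv _ _).symm (retr U P i₀ h₀)).f (n + 1)) 0]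
          rw [zero_comp]
          abel }

end Groth.Agent.CechTrivialCover
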