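import Groth.Agent.CechTrivialCover.Basic
import Mathlib.Topology.Separation.Profinite
import Mathlib.Topology.Sheaves.SheafCondition.Sites
import Mathlib.Algebra.Homology.ShortComplex.Ab
import Mathlib.Order.Disjointed
import Mathlib.Data.Fintype.Lattice

/-!
The Čech complex of a pairwise disjoint family is acyclic; profinite spaces have no higher cohomology.
-/

set_option autoImplicit false
set_option linter.style.haveILetI false
set_option backward.defeqAttrib.useBackward true

open CategoryTheory CategoryTheory.Limits Opposite AlgebraicTopology TopologicalSpace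
open Groth.Agent.SSExist.TopBridge

namespace Groth.Agent.CechTrivialCover

universe u

variable {X : TopCat.{u}} {ι : Type u} (U : ι → Opens X) (P : (Opens X)ᵒᵖ ⥤ AddCommGrpCat.{u})

/-- Repeating the first index. -/
noncomputable def repeatLift {n : ℕ} (x : Fin (n + 1) → ι) :
    ∏ᶜ (U ∘ x) ⟶ ∏ᶜ (U ∘ (Fin.cons (x 0) x : Fin (n + 2) → ι)) :=
  Pi.lift fun a => homOfLE (by
    refine Fin.cases ?_ (fun b => ?_) a
    · simpa using (Pi.π (U ∘ x) 0).le
    · simpa using (Pi.π (U ∘ x) b).le)

/-- The contracting homotopy of a disjoint family. -/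
noncomputable def hD (n : ℕ) : ((cechComplexFunctor U).obj P).X (n + 1) ⟶ ((cechComplexFunctor U).obj P).X n :=
  Pi.lift fun x : Fin (n + 1) → ι =>
    gproj U P (n + 1) (Fin.cons (x 0) x) ≫ P.map (repeatLift U x).op

lemma hD_gproj (n : ℕ) (x : Fin (n + 1) → ι) :
    hD U P n ≫ gproj U P n x = gproj U P (n + 1) (Fin.cons (x 0) x) ≫ P.map (repeatLift U x).op :=
  Pi.lift_π _ x

lemma identity_disjoint (n : ℕ)
    (hP : ∀ x : Fin (n + 2) → ι, (∃ a b, x a ≠ x b) → IsZero (P.obj (op (∏ᶜ (U ∘ x))))) :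
    ((cechComplexFunctor U).obj P).d (n + 1) (n + 2) ≫ hD U P (n + 1) +
      hD U P n ≫ ((cechComplexFunctor U).obj P).d n (n + 1) = 𝟙 _ := by
  refine Pi.hom_ext _ _ fun x : Fin (n + 2) → ι => ?_
  by_cases hx : ∃ a b, x a ≠ x b
  · exact (hP x hx).eq_of_tgt _ _
  push Not at hx
  show (_ + _) ≫ gproj U P (n + 1) x = 𝟙 _ ≫ gproj U P (n + 1) x
  rw [Preadditive.add_comp, Category.assoc, Category.assoc, hD_gproj, ← Category.assoc, d_gproj, d_gproj,
    Preadditive.sum_comp, Preadditive.comp_sum, Fin.sum_univ_succ, Category.id_comp]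
  refine (add_assoc _ _ _).trans ?_
  rw [← Finset.sum_add_distrib, Finset.sum_eq_zero fun j _ => ?_, add_zero]
  · simp only [Fin.val_zero, pow_zero, one_smul, Category.assoc, ← P.map_comp, ← op_comp]
    rw [gproj_congr U P (show (Fin.cons (x 0) x : Fin (n + 3) → ι) ∘ Fin.succAbove 0 = x from by
        funext a; simp) _ (𝟙 _)]
    simp
  · simp only [Preadditive.zsmul_comp, Preadditive.comp_zsmul, ← Category.assoc, hD_gproj]
    simp only [Category.assoc, ← P.map_comp, ← op_comp]
    rw [gproj_congr U P (show (Fin.cons (x 0) x : Fin (n + 3) → ι) ∘ Fin.succAbove j.succ =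
        Fin.cons ((x ∘ j.succAbove) 0) (x ∘ j.succAbove) from by
        funext a; refine Fin.cases ?_ (fun b => ?_) a
        · simpa using hx 0 (j.succAbove 0)
        · simp [Fin.succ_succAbove_succ]) _
        (gface U x j ≫ repeatLift U (x ∘ j.succAbove))]
    simp [pow_succ]

theorem isZero_cechH_disjoint (F : CohTop.Ab X) (hU : Pairwise fun i j => U i ⊓ U j = ⊥) (p : ℕ) :
    IsZero (CohTop.cechH F.obj U (p + 1)) := by
  have hP : ∀ x : Fin (p + 2) → ι, (∃ a b, x a ≠ x b) → IsZero (F.obj.obj (op (∏ᶜ (U ∘ x)))) := by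
    rintro x ⟨a, b, hab⟩
    have h : (∏ᶜ (U ∘ x)) = ⊥ := eq_bot_iff.2 ((le_inf (Pi.π (U ∘ x) a).le (Pi.π (U ∘ x) b).le).trans (hU hab).le)
    rw [h]
    exact IsZero.of_iso (isZero_zero _) ((TopCat.Sheaf.isTerminalOfEmpty F).uniqueUpToIso HasZeroObject.zeroIsTerminal)
  rw [← HomologicalComplex.exactAt_iff_isZero_homology, HomologicalComplex.exactAt_iff' _ p (p + 1) (p + 2) (by simp) (by simp),
    ShortComplex.ab_exact_iff]
  intro (z : ((cechComplexFunctor U).obj F.obj).X (p + 1)) hz
  refine ⟨hD U F.obj p z, ?_⟩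
  have key : hD U F.obj (p + 1) (((cechComplexFunctor U).obj F.obj).d (p + 1) (p + 2) z) +
      ((cechComplexFunctor U).obj F.obj).d p (p + 1) (hD U F.obj p z) = z :=
    ConcreteCategory.congr_hom (identity_disjoint U F.obj p hP) z
  have hz' : ((cechComplexFunctor U).obj F.obj).d (p + 1) (p + 2) z = 0 := hz
  rw [hz', map_zero, zero_add] at key
  exact key

/-- Higher cohomology of profinite spaces vanishes. -/
theorem subsingleton_H_profinite [CompactSpace X] [T2Space X] [TotallyDisconnectedSpace X]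
    (F : CohTop.Ab X) (p : ℕ) : Subsingleton (CohTop.HU F (p + 1) (⊤ : Opens X)) := by
  refine subsingleton_HU F {V : Opens X | IsClopen (V : Set X)}
    (fun κ V => Finite κ ∧ (∀ k, IsClopen (V k : Set X)) ∧ Pairwise fun i j => V i ⊓ V j = ⊥) ?_ ?_ ?_ _ ?_ p
  · rintro κ V ⟨hfin, hV, -⟩
    refine ⟨?_, fun q a => ?_⟩
    · show IsClopen ((iSup V : Opens X) : Set X)
      rw [Opens.coe_iSup]
      exact isClopen_iUnion_of_finite hV
    · show IsClopen ((⨅ k, V (a k) : Opens X) : Set X)
      rw [← Finset.inf_univ_eq_iInf, Opens.coe_finset_inf, Finset.inf_set_eq_iInter]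
      exact isClopen_biInter_finset fun k _ => hV _
  · intro V hV κ W hW
    classical
    have hc : ∀ x ∈ (V : Set X), ∃ C : Set X, IsClopen C ∧ x ∈ C ∧ ∃ k, C ⊆ W k := by
      intro x hx
      rw [← hW] at hx
      obtain ⟨k, hk⟩ := Opens.mem_iSup.1 hx
      obtain ⟨C, hC, hxC, hCW⟩ := compact_exists_isClopen_in_isOpen (W k).2 hk
      exact ⟨C, hC, hxC, k, hCW⟩
    choose! C hC hxC k hCW using hc
    obtain ⟨t, htV, ht⟩ := hV.1.isCompact.elim_nhds_subcover C fun x hx => (hC x hx).2.mem_nhds (hxC x hx)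
    let e := t.equivFin.symm
    let C' : Fin t.card → Set X := fun i => C (e i)
    let D : Fin t.card → Set X := disjointed C'
    have hD : ∀ i, IsClopen (D i) := fun i =>
      disjointedRec (fun _ _ h => IsClopen.diff h (hC _ (htV _ (e _).2))) (hC _ (htV _ (e i).2))
    have hsub : ∀ i, D i ⊆ C' i := fun i => disjointed_le C' i
    refine ⟨ULift.{u} (Fin t.card), fun i => ⟨D i.down, (hD i.down).2⟩, ⟨inferInstance, fun i => hD _, ?_⟩, ?_, ?_⟩
    · intro i j hij
      refine Opens.ext ?_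
      exact Set.disjoint_iff_inter_eq_empty.1 (disjoint_disjointed C' (fun h => hij (ULift.ext _ _ h)))
    · refine Opens.ext ?_
      rw [Opens.coe_iSup]
      refine Set.Subset.antisymm (Set.iUnion_subset fun i => ?_) fun x hx => ?_
      · refine (hsub i.down).trans ((hCW _ (htV _ (e i.down).2)).trans ?_)
        rw [← hW]
        exact SetLike.coe_subset_coe.2 (le_iSup W _)
      · obtain ⟨y, hy, hxy⟩ := Set.mem_iUnion₂.1 (ht hx)
        have hx' : x ∈ ⋃ i, D i := by
          rw [show (⋃ i, D i) = ⋃ i, C' i from iUnion_disjointed]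
          exact Set.mem_iUnion.2 ⟨t.equivFin ⟨y, hy⟩, by simpa [C', e] using hxy⟩
        obtain ⟨i, hi⟩ := Set.mem_iUnion.1 hx'
        exact Set.mem_iUnion.2 ⟨⟨i⟩, hi⟩
    · intro i
      exact ⟨k (e i.down) (htV _ (e i.down).2), fun x hx => hCW _ (htV _ (e i.down).2) (hsub i.down hx)⟩
  · rintro κ V ⟨-, -, hV⟩ q
    exact isZero_cechH_disjoint V F hV q
  · exact isClopen_univ

end Groth.Agent.CechTrivialCover
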